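import Mathlib

/-!
# Torsor algebras

A finite étale `A`-algebra `C` with an action of a group `G` by `A`-algebra endomorphisms which is
simply transitive on geometric points.  This file: the definition and the existence of an element of
trace one.
-/

set_option autoImplicit false
universe u v

namespace Groth.Agent.Lib.Helper9.Torsor

variable {A C : Type u} [CommRing A] [CommRing C] [Algebra A C] {G : Type v} [Group G]
  (σ : G →* (C →ₐ[A] C))

/-- The action is free on geometric points. -/
def IsFreeOnPoints : Prop :=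
  ∀ (Ω : Type u) [Field Ω] [IsAlgClosed Ω] [Algebra A Ω] (ψ : C →ₐ[A] Ω) (g : G),
    ψ.comp (σ g) = ψ → g = 1

/-- `C` with the action `σ` of `G` is a `G`-torsor algebra over `A`. -/
structure IsTorsorAlg : Prop where
  finite : Module.Finite A C
  etale : Algebra.Etale A C
  nonempty : ∀ (Ω : Type u) [Field Ω] [IsAlgClosed Ω] [Algebra A Ω], Nonempty (C →ₐ[A] Ω)
  trans : ∀ (Ω : Type u) [Field Ω] [IsAlgClosed Ω] [Algebra A Ω] (ψ ψ' : C →ₐ[A] Ω),
    ∃! g : G, ψ.comp (σ g) = ψ'

variable {σ}

theorem IsTorsorAlg.free (h : IsTorsorAlg σ) : IsFreeOnPoints σ := by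
  intro Ω _ _ _ ψ g hg
  obtain ⟨g₀, -, hg₀⟩ := h.trans Ω ψ ψ
  have h1 : ψ.comp (σ 1) = ψ := by
    rw [map_one]
    rfl
  rw [hg₀ g hg, hg₀ 1 h1]

theorem comp_injective (hfree : IsFreeOnPoints σ) (Ω : Type u) [Field Ω] [IsAlgClosed Ω]
    [Algebra A Ω] (ψ : C →ₐ[A] Ω) : Function.Injective (fun g : G => ψ.comp (σ g)) := by
  intro g h hgh
  have h1 : (ψ.comp (σ h)).comp (σ (h⁻¹ * g)) = ψ.comp (σ h) := by
    rw [AlgHom.comp_assoc]
    have h2 : (σ h).comp (σ (h⁻¹ * g)) = σ g := by
      have h3 : σ h * σ (h⁻¹ * g) = σ g := by rw [← map_mul, mul_inv_cancel_left]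
      exact h3
    rw [h2]
    exact hgh
  have h4 := hfree Ω (ψ.comp (σ h)) _ h1
  exact (inv_mul_eq_one.mp h4).symm

/-- Existence of an element of trace one for a free action. -/
theorem exists_trace_one [Fintype G] (hfree : IsFreeOnPoints σ) : ∃ c₀ : C, ∑ g, σ g c₀ = 1 := by
  classical
  letI act : MulSemiringAction G C :=
    { smul := fun g c => σ g c
      one_smul := fun c => by show σ 1 c = c; rw [map_one]; rfl
      mul_smul := fun g h c => by show σ (g * h) c = σ g (σ h c); rw [map_mul]; rfl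
      smul_zero := fun g => map_zero (σ g)
      smul_add := fun g => map_add (σ g)
      smul_one := fun g => map_one (σ g)
      smul_mul := fun g => map_mul (σ g) }
  have hsmul : ∀ (g : G) (c : C), g • c = σ g c := fun _ _ => rfl
  have hmem : ∀ b : C, b ∈ FixedPoints.subring C G ↔ ∀ g : G, σ g b = b := fun b => Iff.rfl
  haveI : Algebra.IsInvariant (FixedPoints.subring C G) C G := ⟨fun b hb => ⟨⟨b, hb⟩, rfl⟩⟩
  haveI : Algebra.IsIntegral (FixedPoints.subring C G) C :=
    Algebra.IsInvariant.isIntegral (FixedPoints.subring C G) C G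
  have hcomp : ∀ (h g : G) (c : C), σ h (σ g c) = σ (h * g) c := by
    intro h g c
    rw [map_mul]
    rfl
  have htr_mem : ∀ c : C, ∑ g, σ g c ∈ FixedPoints.subring C G := by
    intro c
    rw [hmem]
    intro h
    rw [map_sum]
    simp only [hcomp]
    exact Fintype.sum_equiv (Equiv.mulLeft h) _ _ (fun g => rfl)
  let Tr : C →ₗ[FixedPoints.subring C G] (FixedPoints.subring C G) :=
    { toFun := fun c => ⟨∑ g, σ g c, htr_mem c⟩
      map_add' := fun c d => by
        apply Subtype.ext
        show ∑ g, σ g (c + d) = ∑ g, σ g c + ∑ g, σ g d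
        simp only [map_add, Finset.sum_add_distrib]
      map_smul' := fun b c => by
        apply Subtype.ext
        show ∑ g, σ g ((b : C) * c) = (b : C) * ∑ g, σ g c
        rw [Finset.mul_sum]
        refine Finset.sum_congr rfl (fun g _ => ?_)
        rw [map_mul, (hmem _).mp b.2 g] }
  have hTr : ∀ c, ((Tr c : FixedPoints.subring C G) : C) = ∑ g, σ g c := fun _ => rfl
  by_contra hne
  push Not at hne
  have hJ : (LinearMap.range Tr : Ideal (FixedPoints.subring C G)) ≠ ⊤ := by
    intro h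
    have h1 : (1 : FixedPoints.subring C G) ∈ LinearMap.range Tr := h ▸ Submodule.mem_top
    obtain ⟨c, hc⟩ := h1
    exact hne c (congrArg Subtype.val hc)
  obtain ⟨M, hM, hJM⟩ := Ideal.exists_le_maximal _ hJ
  haveI := hM
  have hker : RingHom.ker (algebraMap (FixedPoints.subring C G) C) ≤ M := by
    intro b hb
    have hb0 : b = 0 := Subtype.ext hb
    rw [hb0]
    exact M.zero_mem
  obtain ⟨Q, hQ, hQM⟩ := Ideal.exists_ideal_over_maximal_of_isIntegral (S := C) M hker
  haveI := hQ
  letI := Ideal.Quotient.field Q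
  letI algΩ : Algebra A (AlgebraicClosure (C ⧸ Q)) :=
    ((algebraMap (C ⧸ Q) (AlgebraicClosure (C ⧸ Q))).comp
      ((Ideal.Quotient.mk Q).comp (algebraMap A C))).toAlgebra
  let ψ₀ : C →ₐ[A] AlgebraicClosure (C ⧸ Q) :=
    { toRingHom := (algebraMap (C ⧸ Q) (AlgebraicClosure (C ⧸ Q))).comp (Ideal.Quotient.mk Q)
      commutes' := fun _ => rfl }
  have hψ₀ : ∀ c, ψ₀ (∑ g, σ g c) = 0 := by
    intro c
    have h1 : Tr c ∈ M := hJM ⟨c, rfl⟩
    rw [← hQM] at h1
    have h2 : (∑ g, σ g c) ∈ Q := h1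
    show algebraMap (C ⧸ Q) (AlgebraicClosure (C ⧸ Q)) (Ideal.Quotient.mk Q (∑ g, σ g c)) = 0
    rw [Ideal.Quotient.eq_zero_iff_mem.mpr h2, map_zero]
  have hinj : Function.Injective
      (fun g : G => ((ψ₀.comp (σ g) : C →ₐ[A] AlgebraicClosure (C ⧸ Q)) :
        C →* AlgebraicClosure (C ⧸ Q))) := by
    intro g h hgh
    apply comp_injective hfree _ ψ₀
    apply AlgHom.ext
    intro c
    exact congrArg (fun f : C →* AlgebraicClosure (C ⧸ Q) => f c) hgh
  have hli := (linearIndependent_monoidHom C (AlgebraicClosure (C ⧸ Q))).comp _ hinj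
  have h0 := Fintype.linearIndependent_iff.mp hli (fun _ => 1) (by
    ext c
    simp only [Function.comp_apply, one_smul, Finset.sum_apply, Pi.zero_apply]
    have := hψ₀ c
    rw [map_sum] at this
    exact this) 1
  exact one_ne_zero h0

end Groth.Agent.Lib.Helper9.Torsor
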