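import Mathlib
import Groth.Agent.Lib.Helper9.Torsor.Defs

/-!
# Torsor algebras are faithfully flat
-/

set_option autoImplicit false
universe u v

namespace Groth.Agent.Lib.Helper9.Torsor

variable {A C : Type u} [CommRing A] [CommRing C] [Algebra A C] {G : Type v} [Group G]
  {σ : G →* (C →ₐ[A] C)}

theorem IsTorsorAlg.faithfullyFlat (h : IsTorsorAlg σ) : Module.FaithfullyFlat A C := by
  haveI := h.etale
  refine ⟨fun m hm htop => ?_⟩
  haveI := hm
  letI := Ideal.Quotient.field m
  obtain ⟨ψ⟩ := h.nonempty (AlgebraicClosure (A ⧸ m))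
  have h1 : ∀ x ∈ (m • (⊤ : Submodule A C)), ψ x = 0 := by
    intro x hx
    refine Submodule.smul_induction_on hx (fun a ha c _ => ?_) (fun x y hx hy => ?_)
    · rw [map_smul, Algebra.smul_def,
        IsScalarTower.algebraMap_apply A (A ⧸ m) (AlgebraicClosure (A ⧸ m)),
        Ideal.Quotient.algebraMap_eq, Ideal.Quotient.eq_zero_iff_mem.mpr ha, map_zero, zero_mul]
    · rw [map_add, hx, hy, add_zero]
  have h2 := h1 1 (by rw [htop]; exact Submodule.mem_top)
  rw [map_one] at h2
  exact one_ne_zero h2

theorem IsTorsorAlg.algebraMap_injective (h : IsTorsorAlg σ) :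
    Function.Injective (algebraMap A C) := by
  haveI := h.faithfullyFlat
  exact FaithfulSMul.algebraMap_injective A C

end Groth.Agent.Lib.Helper9.Torsor
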