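import Mathlib
import Groth.Agent.Lib.Helper9.Torsor.Defs

/-!
# Vandermonde interpolation for a group action

If `t` is moved by every nontrivial element of `G` by a unit, every element of `C` is uniquely a
polynomial in `t` of degree `< |G|` with invariant coefficients.
-/

set_option autoImplicit false
universe u v

namespace Groth.Agent.Lib.Helper9.Torsor

variable {A C : Type u} [CommRing A] [CommRing C] [Algebra A C] {G : Type v} [Group G]
  (σ : G →* (C →ₐ[A] C))

theorem sigma_comp (k g : G) (c : C) : σ k (σ g c) = σ (k * g) c := by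
  rw [map_mul]
  rfl

theorem sigma_one (c : C) : σ 1 c = c := by
  rw [map_one]
  rfl

variable [Fintype G]

/-- the Vandermonde matrix of the conjugates of `t` is invertible -/
theorem isUnit_vandermonde (t : C) (hu : ∀ g : G, g ≠ 1 → IsUnit (σ g t - t)) :
    IsUnit (Matrix.vandermonde (fun i : Fin (Fintype.card G) =>
      σ ((Fintype.equivFin G).symm i) t)) := by
  classical
  rw [Matrix.isUnit_iff_isUnit_det, Matrix.det_vandermonde, IsUnit.prod_univ_iff]
  intro i
  rw [IsUnit.prod_iff]
  intro j hj
  have hij : i ≠ j := (Finset.mem_Ioi.mp hj).ne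
  have hne : ((Fintype.equivFin G).symm i)⁻¹ * (Fintype.equivFin G).symm j ≠ 1 := by
    intro h
    apply hij
    apply (Fintype.equivFin G).symm.injective
    exact (inv_mul_eq_one.mp h)
  have h1 := (hu _ hne).map (σ ((Fintype.equivFin G).symm i))
  rw [map_sub, sigma_comp, mul_inv_cancel_left] at h1
  exact h1

/-- uniqueness of the coefficients -/
theorem coeffs_unique (t : C) (hu : ∀ g : G, g ≠ 1 → IsUnit (σ g t - t))
    (a a' : Fin (Fintype.card G) → C)
    (h : ∀ g : G, ∑ j : Fin (Fintype.card G), (σ g t) ^ (j : ℕ) * a j =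
      ∑ j : Fin (Fintype.card G), (σ g t) ^ (j : ℕ) * a' j) : a = a' := by
  classical
  apply Matrix.mulVec_injective_of_isUnit (isUnit_vandermonde σ t hu)
  funext i
  exact h ((Fintype.equivFin G).symm i)

/-- existence of invariant coefficients -/
theorem coeffs_exists (t : C) (hu : ∀ g : G, g ≠ 1 → IsUnit (σ g t - t))
    (hinv : ∀ b : C, (∀ g, σ g b = b) → b ∈ (algebraMap A C).range) (c : C) :
    ∃ a : Fin (Fintype.card G) → A,
      c = ∑ j : Fin (Fintype.card G), algebraMap A C (a j) * t ^ (j : ℕ) := by
  classical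
  have hV := isUnit_vandermonde σ t hu
  obtain ⟨a₀, ha₀⟩ := (Matrix.mulVec_surjective_iff_isUnit.mpr hV)
    (fun i => σ ((Fintype.equivFin G).symm i) c)
  have hrow : ∀ g : G, ∑ j : Fin (Fintype.card G), (σ g t) ^ (j : ℕ) * a₀ j = σ g c := by
    intro g
    have h1 := congrFun ha₀ (Fintype.equivFin G g)
    simp only [Matrix.mulVec, dotProduct, Matrix.vandermonde_apply, Equiv.symm_apply_apply] at h1
    exact h1
  have hinv₀ : ∀ (k : G) (j : Fin (Fintype.card G)), σ k (a₀ j) = a₀ j := by
    intro k
    have h1 : (fun j => σ k (a₀ j)) = a₀ := by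
      apply coeffs_unique σ t hu
      intro g
      rw [hrow g]
      have h2 := congrArg (σ k) (hrow (k⁻¹ * g))
      rw [map_sum, sigma_comp, mul_inv_cancel_left] at h2
      rw [← h2]
      refine Finset.sum_congr rfl (fun j _ => ?_)
      rw [map_mul, map_pow, sigma_comp, mul_inv_cancel_left]
    exact fun j => congrFun h1 j
  choose a ha using fun j => hinv (a₀ j) (fun k => hinv₀ k j)
  refine ⟨a, ?_⟩
  have h1 := hrow 1
  rw [sigma_one, sigma_one] at h1
  rw [← h1]
  refine Finset.sum_congr rfl (fun j _ => ?_)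
  rw [ha j, mul_comm]

/-- vanishing of the coefficients -/
theorem coeffs_zero (t : C) (hu : ∀ g : G, g ≠ 1 → IsUnit (σ g t - t))
    (hinj : Function.Injective (algebraMap A C)) (a : Fin (Fintype.card G) → A)
    (h : ∑ j : Fin (Fintype.card G), algebraMap A C (a j) * t ^ (j : ℕ) = 0) : a = 0 := by
  classical
  have h1 : (fun j => algebraMap A C (a j)) = fun _ => (0 : C) := by
    apply coeffs_unique σ t hu
    intro g
    have h2 := congrArg (σ g) h
    rw [map_sum, map_zero] at h2
    simp only [mul_zero, Finset.sum_const_zero]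
    rw [← h2]
    refine Finset.sum_congr rfl (fun j _ => ?_)
    rw [map_mul, map_pow, AlgHom.commutes, mul_comm]
  funext j
  apply hinj
  show algebraMap A C (a j) = algebraMap A C 0
  rw [map_zero]
  exact congrFun h1 j

end Groth.Agent.Lib.Helper9.Torsor
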