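import Mathlib
import Groth.Agent.Lib.Helper9.Torsor.Interp

/-!
# Monogenic algebras mapping to a torsor algebra
-/

set_option autoImplicit false
universe u v

namespace Groth.Agent.Lib.Helper9.Torsor

section Span

variable {A : Type*} [CommRing A] {K : Type*} [CommRing K] [Algebra A K]

/-- An algebra generated by an element `T` satisfying a monic relation of degree `n` is spanned by
the powers `T ^ j`, `j < N`, for every `N ≥ n`. -/
theorem exists_coeffs_of_relation (T : K) (hgen : Algebra.adjoin A {T} = ⊤) (n N : ℕ)
    (hnN : n ≤ N)
    (hrel : T ^ n ∈ Submodule.span A (Set.range fun j : Fin n => T ^ (j : ℕ))) (q : K) :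
    ∃ a : Fin N → A, q = ∑ j : Fin N, a j • T ^ (j : ℕ) := by
  classical
  have hpow : ∀ m : ℕ, T ^ m ∈ Submodule.span A (Set.range fun j : Fin N => T ^ (j : ℕ)) := by
    intro m
    induction m using Nat.strong_induction_on with
    | _ m ih =>
      by_cases hm : m < N
      · exact Submodule.subset_span ⟨⟨m, hm⟩, rfl⟩
      · have hmn : n ≤ m := le_trans hnN (not_lt.mp hm)
        have h1 : T ^ m = T ^ (m - n) * T ^ n := by
          rw [← pow_add, Nat.sub_add_cancel hmn]
        rw [h1]
        have h2 : ∀ x ∈ Submodule.span A (Set.range fun j : Fin n => T ^ (j : ℕ)),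
            T ^ (m - n) * x ∈ Submodule.span A (Set.range fun j : Fin N => T ^ (j : ℕ)) := by
          intro x hx
          induction hx using Submodule.span_induction with
          | mem x hx =>
            obtain ⟨j, rfl⟩ := hx
            rw [← pow_add]
            apply ih
            have := j.2
            omega
          | zero =>
            rw [mul_zero]
            exact Submodule.zero_mem _
          | add x y _ _ hx hy =>
            rw [mul_add]
            exact Submodule.add_mem _ hx hy
          | smul a x _ hx =>
            rw [mul_smul_comm]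
            exact Submodule.smul_mem _ a hx
        exact h2 _ hrel
  have hq : q ∈ Algebra.adjoin A {T} := by
    rw [hgen]
    exact Algebra.mem_top
  rw [Algebra.adjoin_singleton_eq_range_aeval] at hq
  obtain ⟨p, rfl⟩ := hq
  have h3 : Polynomial.aeval T p ∈
      Submodule.span A (Set.range fun j : Fin N => T ^ (j : ℕ)) := by
    rw [Polynomial.aeval_eq_sum_range]
    exact Submodule.sum_mem _ (fun i _ => Submodule.smul_mem _ _ (hpow i))
  obtain ⟨a, ha⟩ := (Submodule.mem_span_range_iff_exists_fun A).mp h3
  exact ⟨a, ha.symm⟩

end Span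

variable {A C : Type u} [CommRing A] [CommRing C] [Algebra A C] {G : Type v} [Group G]
  [Fintype G] (σ : G →* (C →ₐ[A] C))

/-- A monogenic algebra with a relation of degree at most `|G|` mapping its generator to an element
moved by units is isomorphic to the torsor algebra. -/
theorem bijective_of_generator {K : Type u} [CommRing K] [Algebra A K] (T : K)
    (hspan : ∀ q : K, ∃ a : Fin (Fintype.card G) → A,
      q = ∑ j : Fin (Fintype.card G), a j • T ^ (j : ℕ))
    (θ : K →ₐ[A] C) (t : C) (hθ : θ T = t) (hu : ∀ g : G, g ≠ 1 → IsUnit (σ g t - t))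
    (hinv : ∀ b : C, (∀ g, σ g b = b) → b ∈ (algebraMap A C).range)
    (hinj : Function.Injective (algebraMap A C)) : Function.Bijective θ := by
  classical
  have hθq : ∀ a : Fin (Fintype.card G) → A,
      θ (∑ j : Fin (Fintype.card G), a j • T ^ (j : ℕ)) =
        ∑ j : Fin (Fintype.card G), algebraMap A C (a j) * t ^ (j : ℕ) := by
    intro a
    rw [map_sum]
    refine Finset.sum_congr rfl (fun j _ => ?_)
    rw [map_smul, map_pow, hθ, Algebra.smul_def]
  constructor
  · rw [injective_iff_map_eq_zero]
    intro q hq
    obtain ⟨a, rfl⟩ := hspan q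
    rw [hθq] at hq
    have ha := coeffs_zero σ t hu hinj a hq
    rw [ha]
    simp
  · intro c
    obtain ⟨a, ha⟩ := coeffs_exists σ t hu hinv c
    exact ⟨∑ j : Fin (Fintype.card G), a j • T ^ (j : ℕ), by rw [hθq, ← ha]⟩

end Groth.Agent.Lib.Helper9.Torsor
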