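import Mathlib

/-!
# Invariants of a transitive action on a finite étale algebra over a field
-/

set_option autoImplicit false
universe u v

namespace Groth.Agent.Lib.Helper9.Torsor

section Field

variable (k D : Type u) [Field k] [CommRing D] [Algebra k D] [Module.Finite k D]

/-- every prime of a finite algebra over a field is the kernel of a geometric point -/
theorem exists_point_of_prime (𝔮 : Ideal D) [𝔮.IsPrime] :
    ∃ ψ : D →ₐ[k] AlgebraicClosure k, ∀ x, ψ x = 0 ↔ x ∈ 𝔮 := by
  haveI : IsArtinianRing D := IsArtinianRing.of_finite k D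
  haveI : 𝔮.IsMaximal := IsArtinianRing.isMaximal_of_isPrime 𝔮
  letI := Ideal.Quotient.field 𝔮
  haveI : Algebra.IsIntegral k (D ⧸ 𝔮) := Algebra.IsIntegral.of_finite k (D ⧸ 𝔮)
  haveI : Algebra.IsAlgebraic k (D ⧸ 𝔮) := Algebra.IsIntegral.isAlgebraic
  let f : (D ⧸ 𝔮) →ₐ[k] AlgebraicClosure k := IsAlgClosed.lift
  refine ⟨f.comp (Ideal.Quotient.mkₐ k 𝔮), fun x => ?_⟩
  rw [AlgHom.comp_apply, map_eq_zero_iff f f.toRingHom.injective]
  exact Ideal.Quotient.eq_zero_iff_mem

variable [Algebra.Etale k D]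

/-- values of geometric points on elements of a finite étale algebra are separable -/
theorem isSeparable_apply (ψ : D →ₐ[k] AlgebraicClosure k) (d : D) :
    IsSeparable k (ψ d) := by
  haveI : (RingHom.ker ψ).IsPrime := RingHom.ker_isPrime ψ
  haveI : IsArtinianRing D := IsArtinianRing.of_finite k D
  haveI : (RingHom.ker ψ).IsMaximal := IsArtinianRing.isMaximal_of_isPrime _
  letI := Ideal.Quotient.field (RingHom.ker ψ)
  haveI : Algebra.IsSeparable k (D ⧸ RingHom.ker ψ) := inferInstance
  let f : (D ⧸ RingHom.ker ψ) →ₐ[k] AlgebraicClosure k :=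
    Ideal.Quotient.liftₐ (RingHom.ker ψ) ψ (fun x hx => hx)
  have h1 : IsSeparable k (Ideal.Quotient.mk (RingHom.ker ψ) d) :=
    Algebra.IsSeparable.isSeparable k _
  have h2 : f (Ideal.Quotient.mk (RingHom.ker ψ) d) = ψ d := rfl
  rw [← h2]
  exact h1.map f f.toRingHom.injective

/-- Invariants of a transitive action on the geometric points of a finite étale algebra over a
field are scalars. -/
theorem invariant_of_field {G : Type v} (τ : G → (D →ₐ[k] D))
    (htrans : ∀ ψ ψ' : D →ₐ[k] AlgebraicClosure k, ∃ g, ψ.comp (τ g) = ψ')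
    (d : D) (hd : ∀ g, τ g d = d) : ∃ a : k, algebraMap k D a = d := by
  classical
  haveI : IsReduced D := Algebra.FormallyUnramified.isReduced_of_field k D
  rcases subsingleton_or_nontrivial D with hs | hn
  · exact ⟨0, Subsingleton.elim _ _⟩
  obtain ⟨M, hM⟩ := Ideal.exists_maximal D
  haveI := hM.isPrime
  obtain ⟨ψ₀, -⟩ := exists_point_of_prime k D M
  obtain ⟨ω, hω⟩ : ∃ ω, ω = ψ₀ d := ⟨_, rfl⟩
  have h1 : ∀ ψ : D →ₐ[k] AlgebraicClosure k, ψ d = ω := by
    intro ψ
    obtain ⟨g, hg⟩ := htrans ψ₀ ψ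
    rw [← hg, AlgHom.comp_apply, hd, hω]
  have hsep : IsSeparable k ω := by
    rw [hω]
    exact isSeparable_apply k D ψ₀ d
  have hint : IsIntegral k ω := hsep.isIntegral
  have hroots : ∀ ω' : AlgebraicClosure k, Polynomial.aeval ω' (minpoly k ω) = 0 → ω' = ω := by
    intro ω' hω'
    obtain ⟨τ', hτ'⟩ := minpoly.exists_algEquiv_of_root' (K := k) (L := AlgebraicClosure k)
      hint.isAlgebraic hω'
    have h2 := h1 ((τ' : AlgebraicClosure k →ₐ[k] AlgebraicClosure k).comp ψ₀)
    rw [AlgHom.comp_apply, ← hω] at h2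
    rw [← hτ']
    exact h2
  have hdeg : (minpoly k ω).natDegree = 1 := by
    have hsplit : ((minpoly k ω).map (algebraMap k (AlgebraicClosure k))).Splits :=
      IsAlgClosed.splits _
    have hsep' : ((minpoly k ω).map (algebraMap k (AlgebraicClosure k))).Separable :=
      Polynomial.Separable.map hsep
    have hnd := Polynomial.nodup_roots hsep'
    have hcard := hsplit.natDegree_eq_card_roots
    rw [Polynomial.natDegree_map] at hcard
    have hle : ((minpoly k ω).map (algebraMap k (AlgebraicClosure k))).roots ≤ {ω} := by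
      rw [Multiset.le_iff_subset hnd]
      intro x hx
      rw [Polynomial.mem_roots', Polynomial.IsRoot.def, Polynomial.eval_map_algebraMap] at hx
      rw [Multiset.mem_singleton]
      exact hroots x hx.2
    have h3 := Multiset.card_le_card hle
    rw [Multiset.card_singleton] at h3
    have h4 : 0 < (minpoly k ω).natDegree := minpoly.natDegree_pos hint
    omega
  obtain ⟨a, ha⟩ := minpoly.natDegree_eq_one_iff.mp hdeg
  refine ⟨a, ?_⟩
  rw [eq_comm, ← sub_eq_zero]
  apply IsNilpotent.eq_zero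
  rw [nilpotent_iff_mem_prime]
  intro 𝔮 h𝔮
  haveI := h𝔮
  obtain ⟨ψ, hψ⟩ := exists_point_of_prime k D 𝔮
  rw [← hψ, map_sub, h1, AlgHom.commutes, ha, sub_self]

end Field

end Groth.Agent.Lib.Helper9.Torsor
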