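import Mathlib
import Groth.Agent.Lib.Helper9.Torsor.Defs
import Groth.Agent.Lib.Helper9.Torsor.Field

/-!
# Invariants of a torsor algebra are scalars
-/

set_option autoImplicit false
universe u v

open TensorProduct

namespace Groth.Agent.Lib.Helper9.Torsor

variable {A C : Type u} [CommRing A] [CommRing C] [Algebra A C] {G : Type v} [Group G]
  {σ : G →* (C →ₐ[A] C)}

set_option maxHeartbeats 1000000 in
/-- modulo a maximal ideal invariants are scalars -/
theorem invariant_mod_maximal (h : IsTorsorAlg σ) (m : Ideal A) [m.IsMaximal] (b : C)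
    (hb : ∀ g, σ g b = b) :
    ∃ a : A, b - algebraMap A C a ∈ (m • (⊤ : Submodule A C)) := by
  classical
  haveI := h.finite
  haveI := h.etale
  letI := Ideal.Quotient.field m
  let τ : G → ((A ⧸ m) ⊗[A] C →ₐ[A ⧸ m] (A ⧸ m) ⊗[A] C) := fun g =>
    Algebra.TensorProduct.map (AlgHom.id (A ⧸ m) (A ⧸ m)) (σ g)
  have hτ : ∀ g c, τ g (1 ⊗ₜ c) = 1 ⊗ₜ (σ g c) := by
    intro g c
    show Algebra.TensorProduct.map (AlgHom.id (A ⧸ m) (A ⧸ m)) (σ g) (1 ⊗ₜ c) = _
    rw [Algebra.TensorProduct.map_tmul]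
    rfl
  have htrans : ∀ ψ ψ' : (A ⧸ m) ⊗[A] C →ₐ[A ⧸ m] AlgebraicClosure (A ⧸ m),
      ∃ g, ψ.comp (τ g) = ψ' := by
    intro ψ ψ'
    obtain ⟨g, hg, -⟩ := h.trans (AlgebraicClosure (A ⧸ m))
      ((ψ.restrictScalars A).comp Algebra.TensorProduct.includeRight)
      ((ψ'.restrictScalars A).comp Algebra.TensorProduct.includeRight)
    refine ⟨g, ?_⟩
    apply Algebra.TensorProduct.ext
    · apply AlgHom.ext
      intro x
      simp only [AlgHom.comp_apply, Algebra.TensorProduct.includeLeft_apply]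
      rw [show (x ⊗ₜ[A] (1 : C) : (A ⧸ m) ⊗[A] C) = algebraMap (A ⧸ m) _ x from rfl,
        AlgHom.commutes, AlgHom.commutes, AlgHom.commutes]
    · apply AlgHom.ext
      intro c
      have h1 := congrArg (fun f : C →ₐ[A] AlgebraicClosure (A ⧸ m) => f c) hg
      simp only [AlgHom.comp_apply, AlgHom.restrictScalars_apply,
        Algebra.TensorProduct.includeRight_apply] at h1 ⊢
      rw [hτ]
      exact h1
  obtain ⟨ā, hā⟩ := invariant_of_field (A ⧸ m) ((A ⧸ m) ⊗[A] C) τ htrans (1 ⊗ₜ b) (by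
    intro g
    rw [hτ, hb])
  obtain ⟨a, rfl⟩ := Ideal.Quotient.mk_surjective ā
  refine ⟨a, ?_⟩
  have h1 : ((1 : A ⧸ m) ⊗ₜ[A] (b - algebraMap A C a) : (A ⧸ m) ⊗[A] C) = 0 := by
    rw [TensorProduct.tmul_sub, ← hā, sub_eq_zero, Algebra.TensorProduct.algebraMap_apply,
      Algebra.algebraMap_self, RingHom.id_apply, Algebra.algebraMap_eq_smul_one a,
      ← TensorProduct.smul_tmul, Algebra.smul_def, mul_one]
    rfl
  have h2 := congrArg (TensorProduct.quotTensorEquivQuotSMul C m) h1
  rw [map_zero, show (1 : A ⧸ m) = Ideal.Quotient.mk m 1 from rfl,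
    TensorProduct.quotTensorEquivQuotSMul_mk_tmul, one_smul,
    Submodule.Quotient.mk_eq_zero] at h2
  exact h2

set_option maxHeartbeats 1000000 in
/-- Invariants of a torsor algebra are scalars. -/
theorem invariant_mem_range [Fintype G] (h : IsTorsorAlg σ) (b : C) (hb : ∀ g, σ g b = b) :
    b ∈ (algebraMap A C).range := by
  classical
  haveI := h.finite
  obtain ⟨c₀, hc₀⟩ := exists_trace_one h.free
  have hcomp : ∀ (k g : G) (c : C), σ k (σ g c) = σ (k * g) c := by
    intro k g c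
    rw [map_mul]
    rfl
  let π : C →ₗ[A] C :=
    { toFun := fun c => ∑ g, σ g (c * c₀)
      map_add' := fun c d => by
        simp only [add_mul, map_add, Finset.sum_add_distrib]
      map_smul' := fun a c => by
        simp only [RingHom.id_apply, Finset.smul_sum, smul_mul_assoc, map_smul] }
  have hπ : ∀ c, π c = ∑ g, σ g (c * c₀) := fun _ => rfl
  have hπinv : ∀ c k, σ k (π c) = π c := by
    intro c k
    rw [hπ, map_sum]
    simp only [hcomp]
    exact Fintype.sum_equiv (Equiv.mulLeft k) _ _ (fun g => rfl)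
  have hπfix : ∀ x : C, (∀ g, σ g x = x) → π x = x := by
    intro x hx
    rw [hπ]
    simp only [map_mul, hx]
    rw [← Finset.mul_sum, hc₀, mul_one]
  -- the two submodules
  obtain ⟨Bm, hBm⟩ : ∃ Bm : Submodule A C, Bm = LinearMap.range π := ⟨_, rfl⟩
  obtain ⟨N, hN⟩ : ∃ N : Submodule A C, N = LinearMap.range (Algebra.linearMap A C) := ⟨_, rfl⟩
  have hBmfg : Bm.FG := by
    rw [hBm, LinearMap.range_eq_map]
    exact (Module.Finite.fg_top (R := A) (M := C)).map π
  have hstep : ∀ (m : Ideal A) [m.IsMaximal], Bm ≤ N ⊔ m • Bm := by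
    intro m _ x hx
    rw [hBm] at hx
    obtain ⟨c, rfl⟩ := hx
    obtain ⟨a, ha⟩ := invariant_mod_maximal h m (π c) (hπinv c)
    have hy : π c - algebraMap A C a = π (π c - algebraMap A C a) :=
      (hπfix (π c - algebraMap A C a) (fun g => by rw [map_sub, hπinv, AlgHom.commutes])).symm
    have h1 : π c - algebraMap A C a ∈ m • Bm := by
      rw [hy, hBm, LinearMap.range_eq_map, ← Submodule.map_smul'']
      exact Submodule.mem_map_of_mem ha
    have h2 : algebraMap A C a ∈ N := by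
      rw [hN]
      exact ⟨a, rfl⟩
    have h3 : π c = algebraMap A C a + (π c - algebraMap A C a) := by ring
    rw [h3]
    exact Submodule.add_mem_sup h2 h1
  -- pass to the quotient by `N`
  have hfg' : (Bm.map N.mkQ).FG := hBmfg.map _
  have hstep' : ∀ (m : Ideal A) [m.IsMaximal], Bm.map N.mkQ ≤ m • Bm.map N.mkQ := by
    intro m _
    have h1 := Submodule.map_mono (f := N.mkQ) (hstep m)
    rw [Submodule.map_sup, Submodule.map_smul'', Submodule.mkQ_map_self, bot_sup_eq] at h1
    exact h1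
  have hann : (Bm.map N.mkQ).annihilator = ⊤ := by
    by_contra hne
    obtain ⟨m, hm, hle⟩ := Ideal.exists_le_maximal _ hne
    haveI := hm
    obtain ⟨r, hr1, hr2⟩ :=
      Submodule.exists_sub_one_mem_and_smul_eq_zero_of_fg_of_le_smul m _ hfg' (hstep' m)
    have hr : r ∈ m := hle (Submodule.mem_annihilator.mpr hr2)
    have h1 : (1 : A) ∈ m := by
      have := m.sub_mem hr hr1
      rwa [sub_sub_cancel] at this
    exact hm.ne_top ((Ideal.eq_top_iff_one m).mpr h1)
  have hb1 : b ∈ Bm := by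
    rw [hBm]
    exact ⟨b, hπfix b hb⟩
  have h0 : N.mkQ b = 0 := by
    have h1 : (1 : A) ∈ (Bm.map N.mkQ).annihilator := by
      rw [hann]
      exact Submodule.mem_top
    have h2 := Submodule.mem_annihilator.mp h1 _ (Submodule.mem_map_of_mem hb1)
    rwa [one_smul] at h2
  have h1 : b ∈ N := by
    rwa [Submodule.mkQ_apply, Submodule.Quotient.mk_eq_zero] at h0
  rw [hN] at h1
  obtain ⟨a, ha⟩ := h1
  exact ⟨a, ha⟩

end Groth.Agent.Lib.Helper9.Torsor
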