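import Mathlib
import Groth.Prelude.Def_SGA1t
import Groth.Agent.Lib.Helper9.Torsor.Basic
import Groth.Agent.Lib.Helper9.Torsor.Invariants
import Groth.Agent.Lib.Helper9.Torsor.Generator

/-!
# Artin–Schreier theory for torsor algebras in characteristic `p`
-/

set_option autoImplicit false
universe u

namespace Groth.Agent.Lib.Helper9.Torsor

variable {A C : Type u} [CommRing A] [CommRing C] [Algebra A C] (p : ℕ) [Fact p.Prime]
  [CharP A p] (σ : Multiplicative (ZMod p) →* (C →ₐ[A] C))

set_option maxHeartbeats 1600000 in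
/-- A `ℤ/p`-torsor algebra in characteristic `p` is an Artin–Schreier algebra. -/
theorem artinSchreier_core (h : IsTorsorAlg σ) :
    ∃ (a : A) (θ : SGA1t.artinSchreier A p a →ₐ[A] C), Function.Bijective θ ∧
      ∀ (j : ZMod p) (q : SGA1t.artinSchreier A p a),
        σ (Multiplicative.ofAdd j) (θ q) = θ (SGA1t.artinSchreierShift A p a j q) := by
  classical
  have hp : p.Prime := Fact.out
  have hinj := h.algebraMap_injective
  have hinv : ∀ b : C, (∀ g, σ g b = b) → b ∈ (algebraMap A C).range :=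
    fun b hb => invariant_mem_range h b hb
  haveI : CharP C p := charP_of_injective_algebraMap hinj p
  obtain ⟨c₀, hc₀⟩ := exists_trace_one h.free
  have hsum : ∀ f : Multiplicative (ZMod p) → C,
      ∑ g, f g = ∑ j : ZMod p, f (Multiplicative.ofAdd j) :=
    fun f => (Fintype.sum_equiv Multiplicative.ofAdd _ _ (fun _ => rfl)).symm
  rw [hsum] at hc₀
  obtain ⟨cst, hcst⟩ : ∃ cst : ZMod p →+* A, cst = ZMod.castHom (dvd_refl p) A := ⟨_, rfl⟩
  obtain ⟨t, ht⟩ : ∃ t : C, t = ∑ j : ZMod p, (-(cst j)) • σ (Multiplicative.ofAdd j) c₀ :=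
    ⟨_, rfl⟩
  have hσt : ∀ i : ZMod p, σ (Multiplicative.ofAdd i) t = t + algebraMap A C (cst i) := by
    intro i
    have h1 : σ (Multiplicative.ofAdd i) t =
        ∑ j : ZMod p, (-(cst j)) • σ (Multiplicative.ofAdd (i + j)) c₀ := by
      rw [ht, map_sum]
      refine Finset.sum_congr rfl (fun j _ => ?_)
      rw [map_smul, sigma_comp, ← ofAdd_add]
    have h2 : ∑ j : ZMod p, (-(cst j)) • σ (Multiplicative.ofAdd (i + j)) c₀ =
        ∑ j : ZMod p, (-(cst (j - i))) • σ (Multiplicative.ofAdd j) c₀ := by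
      refine Fintype.sum_equiv (Equiv.addLeft i) _ _ (fun j => ?_)
      show _ = (-(cst (i + j - i))) • σ (Multiplicative.ofAdd (i + j)) c₀
      rw [add_sub_cancel_left]
    have h3 : ∀ j : ZMod p, (-(cst (j - i))) • σ (Multiplicative.ofAdd j) c₀ =
        (-(cst j)) • σ (Multiplicative.ofAdd j) c₀ + cst i • σ (Multiplicative.ofAdd j) c₀ := by
      intro j
      rw [← add_smul, map_sub]
      congr 1
      ring
    rw [h1, h2]
    simp only [h3]
    rw [Finset.sum_add_distrib, ← ht, ← Finset.smul_sum, hc₀, Algebra.smul_def, mul_one]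
  have hcstp : ∀ i : ZMod p, cst i ^ p = cst i := by
    intro i
    rw [← map_pow, ZMod.pow_card]
  have hbinv : ∀ g : Multiplicative (ZMod p), σ g (t ^ p - t) = t ^ p - t := by
    intro g
    have hg : g = Multiplicative.ofAdd (Multiplicative.toAdd g) := rfl
    rw [hg, map_sub, map_pow, hσt, add_pow_char, ← map_pow, hcstp]
    ring
  obtain ⟨a, ha⟩ := hinv _ hbinv
  have hf : Polynomial.aeval t ((Polynomial.X : Polynomial A) ^ p - Polynomial.X -
      Polynomial.C a) = 0 := by
    rw [map_sub, map_sub, map_pow, Polynomial.aeval_X, Polynomial.aeval_C, ha]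
    ring
  obtain ⟨θ, hθ⟩ : ∃ θ : SGA1t.artinSchreier A p a →ₐ[A] C,
      ∀ x : Polynomial A, θ (Ideal.Quotient.mk _ x) = Polynomial.aeval t x :=
    ⟨Ideal.Quotient.liftₐ _ (Polynomial.aeval t) (fun x hx => by
      obtain ⟨y, rfl⟩ := Ideal.mem_span_singleton'.mp hx
      rw [map_mul, hf, mul_zero]), fun x => rfl⟩
  obtain ⟨T, hT⟩ : ∃ T : SGA1t.artinSchreier A p a, T = Ideal.Quotient.mk _ Polynomial.X :=
    ⟨_, rfl⟩
  have hθT : θ T = t := by rw [hT, hθ, Polynomial.aeval_X]
  have hgen : Algebra.adjoin A {T} = ⊤ := by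
    have h1 : (Algebra.adjoin A {(Polynomial.X : Polynomial A)}).map
        (Ideal.Quotient.mkₐ A (Ideal.span {(Polynomial.X : Polynomial A) ^ p - Polynomial.X -
          Polynomial.C a})) = ⊤ := by
      rw [Polynomial.adjoin_X, Algebra.map_top, AlgHom.range_eq_top]
      exact Ideal.Quotient.mkₐ_surjective A _
    rw [AlgHom.map_adjoin, Set.image_singleton] at h1
    rw [hT]
    exact h1
  have halg : ∀ x : A, algebraMap A (SGA1t.artinSchreier A p a) x =
      Ideal.Quotient.mk _ (Polynomial.C x) := fun x => rfl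
  have hTrel : T ^ p = T + algebraMap A _ a := by
    rw [hT, halg, ← map_pow, ← map_add, ← sub_eq_zero, ← map_sub, Ideal.Quotient.eq_zero_iff_mem]
    have h1 : (Polynomial.X : Polynomial A) ^ p - (Polynomial.X + Polynomial.C a) =
        Polynomial.X ^ p - Polynomial.X - Polynomial.C a := by ring
    rw [h1]
    exact Ideal.subset_span rfl
  have hrel : T ^ p ∈ Submodule.span A (Set.range fun j : Fin p => T ^ (j : ℕ)) := by
    rw [hTrel]
    refine Submodule.add_mem _ (Submodule.subset_span ⟨⟨1, hp.one_lt⟩, pow_one T⟩) ?_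
    rw [Algebra.algebraMap_eq_smul_one]
    exact Submodule.smul_mem _ _ (Submodule.subset_span ⟨⟨0, hp.pos⟩, pow_zero T⟩)
  have hcard : Fintype.card (Multiplicative (ZMod p)) = p := by
    rw [Fintype.card_multiplicative, ZMod.card]
  have hspan := exists_coeffs_of_relation T hgen p (Fintype.card (Multiplicative (ZMod p)))
    (le_of_eq hcard.symm) hrel
  have hu : ∀ g : Multiplicative (ZMod p), g ≠ 1 → IsUnit (σ g t - t) := by
    intro g hg
    have hg' : g = Multiplicative.ofAdd (Multiplicative.toAdd g) := rfl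
    have hj : Multiplicative.toAdd g ≠ 0 := fun h0 => hg (by rw [hg', h0]; rfl)
    rw [hg', hσt, add_sub_cancel_left]
    exact ((IsUnit.mk0 _ hj).map cst).map (algebraMap A C)
  have hbij := bijective_of_generator σ T hspan θ t hθT hu hinv hinj
  refine ⟨a, θ, hbij, fun j q => ?_⟩
  have hcompat : ((σ (Multiplicative.ofAdd j) : C →ₐ[A] C) : C →+* C).comp θ.toRingHom =
      θ.toRingHom.comp (SGA1t.artinSchreierShift A p a j) := by
    apply Ideal.Quotient.ringHom_ext
    apply Polynomial.ringHom_ext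
    · intro x
      show σ (Multiplicative.ofAdd j) (θ (Ideal.Quotient.mk _ (Polynomial.C x))) =
        θ (Ideal.Quotient.mk _ (Polynomial.aeval (R := A) (Polynomial.X + Polynomial.C
          ((ZMod.castHom (dvd_refl p) A) j)) (Polynomial.C x)))
      rw [hθ, hθ, Polynomial.aeval_C, Polynomial.aeval_C, Polynomial.algebraMap_eq,
        Polynomial.aeval_C, AlgHom.commutes]
    · show σ (Multiplicative.ofAdd j) (θ (Ideal.Quotient.mk _ Polynomial.X)) =
        θ (Ideal.Quotient.mk _ (Polynomial.aeval (R := A) (Polynomial.X + Polynomial.C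
          ((ZMod.castHom (dvd_refl p) A) j)) Polynomial.X))
      rw [hθ, hθ, Polynomial.aeval_X, Polynomial.aeval_X, map_add, Polynomial.aeval_X,
        Polynomial.aeval_C, hσt, hcst]
  exact congrArg (fun f : SGA1t.artinSchreier A p a →+* C => f q) hcompat

end Groth.Agent.Lib.Helper9.Torsor
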