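import Mathlib

/-!
# Roots of unity in a local ring in which `n` is invertible
-/

set_option autoImplicit false
universe u

namespace Groth.Agent.Lib.Helper9.Torsor

variable {A : Type u} [CommRing A] [IsLocalRing A] {n : ℕ}

/-- a root of unity congruent to `1` modulo the maximal ideal is `1` -/
theorem eq_one_of_sub_one_not_isUnit (hn : IsUnit (n : A)) (ζ : A) (hζ : ζ ^ n = 1)
    (h : ¬ IsUnit (ζ - 1)) : ζ = 1 := by
  have hm : ζ - 1 ∈ IsLocalRing.maximalIdeal A := (IsLocalRing.mem_maximalIdeal _).mpr h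
  have h1 : (∑ i ∈ Finset.range n, ζ ^ i) * (ζ - 1) = 0 := by
    rw [geom_sum_mul, hζ, sub_self]
  have h2 : (∑ i ∈ Finset.range n, ζ ^ i) - (n : A) ∈ IsLocalRing.maximalIdeal A := by
    have h3 : (∑ i ∈ Finset.range n, ζ ^ i) - (n : A) = ∑ i ∈ Finset.range n, (ζ ^ i - 1) := by
      rw [Finset.sum_sub_distrib, Finset.sum_const, Finset.card_range, nsmul_eq_mul, mul_one]
    rw [h3]
    refine Ideal.sum_mem _ (fun i _ => ?_)
    obtain ⟨d, hd⟩ := sub_dvd_pow_sub_pow ζ 1 i
    rw [one_pow] at hd
    rw [hd]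
    exact Ideal.mul_mem_right _ _ hm
  have h4 : IsUnit (∑ i ∈ Finset.range n, ζ ^ i) := by
    by_contra hnu
    have h5 : (∑ i ∈ Finset.range n, ζ ^ i) ∈ IsLocalRing.maximalIdeal A :=
      (IsLocalRing.mem_maximalIdeal _).mpr hnu
    have h6 : (n : A) ∈ IsLocalRing.maximalIdeal A := by
      have := Ideal.sub_mem _ h5 h2
      rwa [sub_sub_cancel] at this
    exact (IsLocalRing.mem_maximalIdeal _).mp h6 hn
  have h7 := (h4.mul_right_eq_zero).mp h1
  exact sub_eq_zero.mp h7

/-- nontrivial roots of unity differ from `1` by a unit -/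
theorem isUnit_sub_one (hn : IsUnit (n : A)) (ζ : rootsOfUnity n A) (hζ : ζ ≠ 1) :
    IsUnit (((ζ : Aˣ) : A) - 1) := by
  by_contra h
  apply hζ
  have h1 : ((ζ : Aˣ) : A) ^ n = 1 := by
    have h2 := (mem_rootsOfUnity n (ζ : Aˣ)).mp ζ.2
    have h3 := congrArg Units.val h2
    simpa using h3
  have h2 := eq_one_of_sub_one_not_isUnit hn _ h1 h
  apply Subtype.ext
  apply Units.ext
  exact h2

/-- the group of `n`-th roots of unity of a local ring in which `n` is invertible is finite -/
theorem finite_rootsOfUnity (hn1 : 1 ≤ n) (hn : IsUnit (n : A)) : Finite (rootsOfUnity n A) := by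
  haveI : NeZero n := ⟨by omega⟩
  let f : rootsOfUnity n A →* rootsOfUnity n (IsLocalRing.ResidueField A) :=
    restrictRootsOfUnity (IsLocalRing.residue A) n
  have hf : Function.Injective f := by
    rw [injective_iff_map_eq_one]
    intro ζ hζ
    by_contra hne
    have h1 := isUnit_sub_one hn ζ hne
    have h2 : IsLocalRing.residue A ((ζ : Aˣ) : A) = 1 := by
      have h3 := congrArg (fun x : rootsOfUnity n (IsLocalRing.ResidueField A) =>
        ((x : (IsLocalRing.ResidueField A)ˣ) : IsLocalRing.ResidueField A)) hζ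
      simpa [f, restrictRootsOfUnity] using h3
    have h3 := h1.map (IsLocalRing.residue A)
    rw [map_sub, h2, map_one, sub_self] at h3
    exact not_isUnit_zero h3
  exact Finite.of_injective f hf

end Groth.Agent.Lib.Helper9.Torsor
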