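import Mathlib
import Groth.Prelude.Def_SGA1t
import Groth.Agent.Lib.Helper9.Torsor.Basic
import Groth.Agent.Lib.Helper9.Torsor.Invariants
import Groth.Agent.Lib.Helper9.Torsor.Generator
import Groth.Agent.Lib.Helper9.Torsor.RootsLocal

/-!
# Kummer theory for torsor algebras over a local ring
-/

set_option autoImplicit false
universe u

namespace Groth.Agent.Lib.Helper9.Torsor

variable {A C : Type u} [CommRing A] [IsLocalRing A] [CommRing C] [Algebra A C] (n : ℕ)
  (σ : rootsOfUnity n A →* (C →ₐ[A] C))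

/-- the coercion of a root of unity to the ring -/
abbrev rv (g : rootsOfUnity n A) : A := ((g : Aˣ) : A)

theorem rv_mul (g h : rootsOfUnity n A) : rv n (g * h) = rv n g * rv n h := by
  simp [rv]

theorem rv_one : rv n (1 : rootsOfUnity n A) = 1 := by
  simp [rv]

theorem rv_pow (g : rootsOfUnity n A) : rv n g ^ n = 1 := by
  have h2 := (mem_rootsOfUnity n (g : Aˣ)).mp g.2
  have h3 := congrArg Units.val h2
  simpa using h3

set_option maxHeartbeats 1600000 in
/-- A `μ_n(A)`-torsor algebra over a local ring containing a primitive `n`-th root of unity, `n`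
invertible, is a Kummer algebra. -/
theorem kummer_core (hn1 : 1 ≤ n) (hn : IsUnit (n : A)) (ζ₀ : A) (hζ₀ : IsPrimitiveRoot ζ₀ n)
    (h : IsTorsorAlg σ) :
    ∃ (a : Aˣ) (θ : SGA1t.kummer A (fun _ : Unit => (a : A)) (fun _ => n) →ₐ[A] C),
      Function.Bijective θ ∧
      ∀ (ζ : rootsOfUnity n A) (q : SGA1t.kummer A (fun _ : Unit => (a : A)) (fun _ => n)),
        σ ζ (θ q) = θ (SGA1t.kummerTwist A (fun _ : Unit => (a : A)) (fun _ => n) (fun _ => ζ) q) := by
  classical
  haveI : NeZero n := ⟨by omega⟩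
  haveI : Finite (rootsOfUnity n A) := finite_rootsOfUnity hn1 hn
  letI : Fintype (rootsOfUnity n A) := Fintype.ofFinite _
  have hinj := h.algebraMap_injective
  have hinv : ∀ b : C, (∀ g, σ g b = b) → b ∈ (algebraMap A C).range :=
    fun b hb => invariant_mem_range h b hb
  -- the resolvent
  obtain ⟨e₁, he₁⟩ : ∃ e₁ : C → C, ∀ c, e₁ c = ∑ g : rootsOfUnity n A, rv n g⁻¹ • σ g c :=
    ⟨_, fun _ => rfl⟩
  have hequiv : ∀ (k : rootsOfUnity n A) (c : C), σ k (e₁ c) = rv n k • e₁ c := by
    intro k c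
    have h1 : σ k (e₁ c) = ∑ g : rootsOfUnity n A, rv n g⁻¹ • σ (k * g) c := by
      rw [he₁, map_sum]
      refine Finset.sum_congr rfl (fun g _ => ?_)
      rw [map_smul, sigma_comp]
    have h2 : ∑ g : rootsOfUnity n A, rv n g⁻¹ • σ (k * g) c =
        ∑ g : rootsOfUnity n A, rv n (k⁻¹ * g)⁻¹ • σ g c := by
      refine Fintype.sum_equiv (Equiv.mulLeft k) _ _ (fun g => ?_)
      show _ = rv n (k⁻¹ * (k * g))⁻¹ • σ (k * g) c
      rw [inv_mul_cancel_left]
    rw [h1, h2, he₁, Finset.smul_sum]
    refine Finset.sum_congr rfl (fun g _ => ?_)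
    rw [← mul_smul, ← rv_mul, mul_inv_rev, inv_inv, mul_comm]
  -- a geometric point over the closed point
  obtain ⟨ψ₀⟩ := h.nonempty (AlgebraicClosure (IsLocalRing.ResidueField A))
  have hker : ∀ x : A, algebraMap A (AlgebraicClosure (IsLocalRing.ResidueField A)) x = 0 →
      ¬ IsUnit x := by
    intro x hx hu
    have := hu.map (algebraMap A (AlgebraicClosure (IsLocalRing.ResidueField A)))
    rw [hx] at this
    exact not_isUnit_zero this
  have hexists : ∃ c, ψ₀ (e₁ c) ≠ 0 := by
    by_contra hall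
    push Not at hall
    have hinjχ : Function.Injective
        (fun g : rootsOfUnity n A =>
          ((ψ₀.comp (σ g) : C →ₐ[A] AlgebraicClosure (IsLocalRing.ResidueField A)) :
            C →* AlgebraicClosure (IsLocalRing.ResidueField A))) := by
      intro g k hgk
      apply comp_injective h.free _ ψ₀
      apply AlgHom.ext
      intro c
      exact congrArg (fun f : C →* AlgebraicClosure (IsLocalRing.ResidueField A) => f c) hgk
    have hli := (linearIndependent_monoidHom C
      (AlgebraicClosure (IsLocalRing.ResidueField A))).comp _ hinjχ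
    have h0 := Fintype.linearIndependent_iff.mp hli
      (fun g => algebraMap A (AlgebraicClosure (IsLocalRing.ResidueField A)) (rv n g⁻¹)) (by
        ext c
        simp only [Function.comp_apply, Finset.sum_apply, Pi.zero_apply, Pi.smul_apply,
          smul_eq_mul]
        have h1 := hall c
        rw [he₁, map_sum] at h1
        rw [← h1]
        refine Finset.sum_congr rfl (fun g _ => ?_)
        rw [map_smul, Algebra.smul_def]
        rfl) 1
    rw [inv_one, rv_one, map_one] at h0
    exact one_ne_zero h0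
  obtain ⟨c, hc⟩ := hexists
  obtain ⟨t, ht⟩ : ∃ t : C, t = e₁ c := ⟨_, rfl⟩
  have hσt : ∀ k : rootsOfUnity n A, σ k t = rv n k • t := by
    intro k
    rw [ht, hequiv]
  -- `t ^ n` is an invariant unit
  have htn_inv : ∀ g : rootsOfUnity n A, σ g (t ^ n) = t ^ n := by
    intro g
    rw [map_pow, hσt, smul_pow, rv_pow, one_smul]
  obtain ⟨a₀, ha₀⟩ := hinv _ htn_inv
  have ha₀u : IsUnit a₀ := by
    by_contra hnu
    have h1 : IsLocalRing.residue A a₀ = 0 := (IsLocalRing.residue_eq_zero_iff a₀).mpr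
      ((IsLocalRing.mem_maximalIdeal _).mpr hnu)
    have h2 : algebraMap A (AlgebraicClosure (IsLocalRing.ResidueField A)) a₀ = 0 := by
      rw [IsScalarTower.algebraMap_apply A (IsLocalRing.ResidueField A)
        (AlgebraicClosure (IsLocalRing.ResidueField A))]
      show algebraMap _ _ (IsLocalRing.residue A a₀) = 0
      rw [h1, map_zero]
    have h3 : ψ₀ (t ^ n) = 0 := by rw [← ha₀, AlgHom.commutes, h2]
    rw [map_pow, ht] at h3
    exact hc (pow_eq_zero_iff (NeZero.ne n) |>.mp h3)
  obtain ⟨a, rfl⟩ := ha₀u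
  have htu : IsUnit t := by
    have h1 : IsUnit (t ^ n) := by
      rw [← ha₀]
      exact a.isUnit.map (algebraMap A C)
    exact (isUnit_pow_iff (NeZero.ne n)).mp h1
  have hu : ∀ g : rootsOfUnity n A, g ≠ 1 → IsUnit (σ g t - t) := by
    intro g hg
    have h1 : σ g t - t = algebraMap A C (rv n g - 1) * t := by
      rw [hσt, Algebra.smul_def, map_sub, map_one]
      ring
    rw [h1]
    exact ((isUnit_sub_one hn g hg).map (algebraMap A C)).mul htu
  -- the Kummer algebra
  have hle : Ideal.span (Set.range fun _ : Unit =>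
      (MvPolynomial.X () : MvPolynomial Unit A) ^ n - MvPolynomial.C (a : A)) ≤
      RingHom.ker (MvPolynomial.aeval (R := A) (fun _ : Unit => t)).toRingHom := by
    rw [Ideal.span_le]
    rintro _ ⟨i, rfl⟩
    rw [SetLike.mem_coe, RingHom.mem_ker]
    show MvPolynomial.aeval (fun _ : Unit => t)
      ((MvPolynomial.X () : MvPolynomial Unit A) ^ n - MvPolynomial.C (a : A)) = 0
    rw [map_sub, map_pow, MvPolynomial.aeval_X, MvPolynomial.aeval_C, ha₀, sub_self]
  obtain ⟨θ, hθ⟩ : ∃ θ : SGA1t.kummer A (fun _ : Unit => (a : A)) (fun _ => n) →ₐ[A] C,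
      ∀ x : MvPolynomial Unit A, θ (Ideal.Quotient.mk _ x) =
        MvPolynomial.aeval (fun _ : Unit => t) x :=
    ⟨Ideal.Quotient.liftₐ _ (MvPolynomial.aeval (fun _ : Unit => t)) (fun x hx => hle hx),
      fun x => rfl⟩
  obtain ⟨T, hT⟩ : ∃ T : SGA1t.kummer A (fun _ : Unit => (a : A)) (fun _ => n),
      T = Ideal.Quotient.mk _ (MvPolynomial.X ()) := ⟨_, rfl⟩
  have hθT : θ T = t := by rw [hT, hθ, MvPolynomial.aeval_X]
  have hgen : Algebra.adjoin A {T} = ⊤ := by
    have h1 : (Algebra.adjoin A (Set.range (MvPolynomial.X : Unit → MvPolynomial Unit A))).map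
        (Ideal.Quotient.mkₐ A (Ideal.span (Set.range fun _ : Unit =>
          (MvPolynomial.X () : MvPolynomial Unit A) ^ n - MvPolynomial.C (a : A)))) = ⊤ := by
      rw [MvPolynomial.adjoin_range_X, Algebra.map_top, AlgHom.range_eq_top]
      exact Ideal.Quotient.mkₐ_surjective A _
    have hrange : Set.range (MvPolynomial.X : Unit → MvPolynomial Unit A) =
        {MvPolynomial.X ()} := Set.range_unique
    rw [AlgHom.map_adjoin, hrange, Set.image_singleton] at h1
    rw [hT]
    exact h1
  have halg : ∀ x : A, algebraMap A (SGA1t.kummer A (fun _ : Unit => (a : A)) (fun _ => n)) x =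
      Ideal.Quotient.mk _ (MvPolynomial.C x) := fun x => rfl
  have hTrel : T ^ n = algebraMap A _ (a : A) := by
    rw [hT, halg, ← map_pow, ← sub_eq_zero, ← map_sub, Ideal.Quotient.eq_zero_iff_mem]
    exact Ideal.subset_span ⟨(), rfl⟩
  have hrel : T ^ n ∈ Submodule.span A (Set.range fun j : Fin n => T ^ (j : ℕ)) := by
    rw [hTrel, Algebra.algebraMap_eq_smul_one]
    exact Submodule.smul_mem _ _ (Submodule.subset_span ⟨⟨0, by omega⟩, pow_zero T⟩)
  have hcard : n ≤ Fintype.card (rootsOfUnity n A) := by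
    have h1 : orderOf (hζ₀.toRootsOfUnity) = orderOf ζ₀ := by
      rw [← Subgroup.orderOf_coe, ← orderOf_units, IsPrimitiveRoot.val_toRootsOfUnity_coe]
    have h2 : n = orderOf ζ₀ := hζ₀.eq_orderOf
    calc n = orderOf ζ₀ := h2
      _ = orderOf hζ₀.toRootsOfUnity := h1.symm
      _ ≤ Fintype.card (rootsOfUnity n A) := orderOf_le_card_univ
  have hspan := exists_coeffs_of_relation T hgen n (Fintype.card (rootsOfUnity n A)) hcard hrel
  have hbij := bijective_of_generator σ T hspan θ t hθT hu hinv hinj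
  refine ⟨a, θ, hbij, fun ζ q => ?_⟩
  have hcompat : ((σ ζ : C →ₐ[A] C) : C →+* C).comp θ.toRingHom =
      θ.toRingHom.comp (SGA1t.kummerTwist A (fun _ : Unit => (a : A)) (fun _ => n)
        (fun _ => ζ)) := by
    apply Ideal.Quotient.ringHom_ext
    apply MvPolynomial.ringHom_ext
    · intro x
      show σ ζ (θ (Ideal.Quotient.mk _ (MvPolynomial.C x))) =
        θ (Ideal.Quotient.mk _ (MvPolynomial.aeval (R := A)
          (fun i : Unit => MvPolynomial.C (((ζ : Aˣ) : A)) * MvPolynomial.X i)
          (MvPolynomial.C x)))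
      rw [hθ, hθ, MvPolynomial.aeval_C, MvPolynomial.aeval_C, MvPolynomial.algebraMap_eq,
        MvPolynomial.aeval_C, AlgHom.commutes]
    · intro i
      show σ ζ (θ (Ideal.Quotient.mk _ (MvPolynomial.X i))) =
        θ (Ideal.Quotient.mk _ (MvPolynomial.aeval (R := A)
          (fun i : Unit => MvPolynomial.C (((ζ : Aˣ) : A)) * MvPolynomial.X i)
          (MvPolynomial.X i)))
      rw [hθ, hθ, MvPolynomial.aeval_X, MvPolynomial.aeval_X, map_mul, MvPolynomial.aeval_X,
        MvPolynomial.aeval_C, hσt, Algebra.smul_def]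
  exact congrArg (fun f : SGA1t.kummer A (fun _ : Unit => (a : A)) (fun _ => n) →+* C => f q)
    hcompat

end Groth.Agent.Lib.Helper9.Torsor
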