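import Mathlib
import Groth.Prelude.Def_SGA1t
import Groth.Agent.Lib.Helper9.AbhSch.AffineHom
import Groth.Agent.Lib.Helper9.GalCov.Residue
import Groth.Agent.Lib.Helper9.Torsor.Defs

/-!
# Principal covers of an affine scheme as torsor algebras
-/

set_option autoImplicit false
universe u v

open CategoryTheory AlgebraicGeometry

namespace Groth.Agent.Lib.Helper9.Torsor

open Groth.Agent.Lib.Helper9.AbhSch

variable {A : Type u} [CommRing A] (P : FEt.Cat (Spec (CommRingCat.of A)))

/-- the algebra of global functions of a cover of `Spec A` -/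
@[reducible] noncomputable def algC : Algebra A Γ(P.left, ⊤) := (ringMap P.hom).hom.toAlgebra

attribute [local instance] algC

theorem algebraMap_eq : algebraMap A Γ(P.left, ⊤) = (ringMap P.hom).hom := rfl

variable {P}

theorem appTop_commutes (φ : Aut P) :
    ringMap P.hom ≫ φ.hom.left.appTop = ringMap P.hom := by
  have hw : φ.hom.left ≫ P.hom = P.hom := Over.w φ.hom.hom
  unfold ringMap
  rw [Category.assoc, ← Scheme.Hom.comp_appTop, hw]

/-- an automorphism of the cover acts on global functions -/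
noncomputable def autAlgHom (φ : Aut P) : Γ(P.left, ⊤) →ₐ[A] Γ(P.left, ⊤) :=
  { toRingHom := φ.hom.left.appTop.hom
    commutes' := fun a => by
      have h1 := congrArg (fun k => k.hom a) (appTop_commutes φ)
      exact h1 }

theorem autAlgHom_apply (φ : Aut P) (c : Γ(P.left, ⊤)) :
    autAlgHom φ c = φ.hom.left.appTop.hom c := rfl

theorem autAlgHom_one : autAlgHom (1 : Aut P) = AlgHom.id A _ := by
  apply AlgHom.ext
  intro c
  rw [autAlgHom_apply]
  have h1 : (1 : Aut P).hom.left = 𝟙 P.left := rfl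
  rw [h1]
  simp

theorem autAlgHom_mul (φ φ' : Aut P) :
    autAlgHom (φ * φ') = (autAlgHom φ').comp (autAlgHom φ) := by
  apply AlgHom.ext
  intro c
  rw [AlgHom.comp_apply, autAlgHom_apply, autAlgHom_apply, autAlgHom_apply]
  have h1 : (φ * φ').hom.left = φ'.hom.left ≫ φ.hom.left := rfl
  rw [h1, Scheme.Hom.comp_appTop]
  rfl

theorem isoSpec_inv_hom [h : IsAffine P.left] :
    P.left.isoSpec.inv ≫ P.hom = Spec.map (ringMap P.hom) := by
  haveI : IsAffine ((𝟭 Scheme).obj P.left) := h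
  exact isoSpec_inv_comp P.hom

section Action

variable {G : Type v} [CommGroup G] (ρ : G →* Aut P)

/-- the action of a commutative group on global functions -/
noncomputable def sig : G →* (Γ(P.left, ⊤) →ₐ[A] Γ(P.left, ⊤)) where
  toFun g := autAlgHom (ρ g)
  map_one' := by
    rw [map_one, autAlgHom_one]
    rfl
  map_mul' g h := by
    rw [mul_comm g h, map_mul, autAlgHom_mul]
    rfl

theorem sig_apply (g : G) (c : Γ(P.left, ⊤)) : sig ρ g c = (ρ g).hom.left.appTop.hom c := rfl

end Action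

section Points

variable (Ω : Type u) [Field Ω] [Algebra A Ω]

/-- the geometric point of `Spec A` given by an `A`-algebra structure -/
noncomputable def geomPt : Spec (CommRingCat.of Ω) ⟶ Spec (CommRingCat.of A) :=
  Spec.map (CommRingCat.ofHom (algebraMap A Ω))

variable {Ω}

/-- the point of the cover given by an algebra homomorphism -/
noncomputable def ptOf [IsAffine P.left] (ψ : Γ(P.left, ⊤) →ₐ[A] Ω) :
    Spec (CommRingCat.of Ω) ⟶ P.left :=
  Spec.map (CommRingCat.ofHom ψ.toRingHom) ≫ P.left.isoSpec.inv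

theorem ptOf_comp [IsAffine P.left] (ψ : Γ(P.left, ⊤) →ₐ[A] Ω) :
    ptOf ψ ≫ P.hom = geomPt Ω := by
  unfold ptOf geomPt
  rw [Category.assoc, isoSpec_inv_hom, ← Spec.map_comp]
  congr 1
  ext a
  exact ψ.commutes a

theorem ptOf_injective [IsAffine P.left] (ψ ψ' : Γ(P.left, ⊤) →ₐ[A] Ω)
    (h : ptOf ψ = ptOf ψ') : ψ = ψ' := by
  unfold ptOf at h
  rw [cancel_mono] at h
  have h1 := Spec.map_injective h
  apply AlgHom.ext
  intro c
  exact congrArg (fun k => k.hom c) h1

theorem exists_ptOf [IsAffine P.left] (s : Spec (CommRingCat.of Ω) ⟶ P.left)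
    (hs : s ≫ P.hom = geomPt Ω) : ∃ ψ : Γ(P.left, ⊤) →ₐ[A] Ω, ptOf ψ = s := by
  obtain ⟨φ, hφ⟩ := Spec.map_surjective (s ≫ P.left.isoSpec.hom)
  have hcomm : ringMap P.hom ≫ φ = CommRingCat.ofHom (algebraMap A Ω) := by
    apply Spec.map_injective
    rw [Spec.map_comp, hφ, ← isoSpec_inv_hom, Category.assoc, Iso.hom_inv_id_assoc, hs]
    rfl
  refine ⟨{ toRingHom := φ.hom, commutes' := fun a => ?_ }, ?_⟩
  · exact congrArg (fun k => k.hom a) hcomm
  · unfold ptOf
    rw [Iso.comp_inv_eq, ← hφ]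
    rfl

theorem ptOf_comp_aut [IsAffine P.left] (ψ : Γ(P.left, ⊤) →ₐ[A] Ω) (φ : Aut P) :
    ptOf ψ ≫ φ.hom.left = ptOf (ψ.comp (autAlgHom φ)) := by
  unfold ptOf
  rw [Category.assoc, ← Scheme.isoSpec_inv_naturality, ← Category.assoc, ← Spec.map_comp]
  rfl

end Points

section Lift

/-- geometric points lift along surjective finite étale morphisms -/
theorem exists_lift_geomPt {X Y : Scheme.{u}} (f : X ⟶ Y) [FormallyUnramified f]
    [LocallyOfFiniteType f] (hf : Function.Surjective f.base) (Ω : Type u) [Field Ω]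
    [IsAlgClosed Ω] (ξ : Spec (CommRingCat.of Ω) ⟶ Y) :
    ∃ s : Spec (CommRingCat.of Ω) ⟶ X, s ≫ f = ξ := by
  obtain ⟨⟨y, g⟩, hξ⟩ : ∃ p : Σ y, Y.residueField y ⟶ .of Ω,
      ξ = Spec.map p.2 ≫ Y.fromSpecResidueField p.1 :=
    ⟨(Scheme.SpecToEquivOfField _ _) ξ, ((Scheme.SpecToEquivOfField _ _).symm_apply_apply ξ).symm⟩
  dsimp only at hξ
  obtain ⟨z, rfl⟩ := hf y
  letI alg1 : Algebra (Y.residueField (f.base z)) (X.residueField z) :=
    (f.residueFieldMap z).hom.toAlgebra
  letI alg2 : Algebra (Y.residueField (f.base z)) Ω := g.hom.toAlgebra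
  haveI : Module.Finite (Y.residueField (f.base z)) (X.residueField z) :=
    Groth.Agent.Lib.Helper9.GalCov.finite_residueField f z
  haveI : Algebra.IsAlgebraic (Y.residueField (f.base z)) (X.residueField z) :=
    Algebra.IsAlgebraic.of_finite _ _
  let l : X.residueField z →ₐ[Y.residueField (f.base z)] Ω := IsAlgClosed.lift
  refine ⟨Spec.map (CommRingCat.ofHom l.toRingHom) ≫ X.fromSpecResidueField z, ?_⟩
  rw [Category.assoc, ← Scheme.Hom.SpecMap_residueFieldMap_fromSpecResidueField, ← Category.assoc,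
    ← Spec.map_comp, hξ]
  congr 2
  ext a
  exact l.commutes a

end Lift

section Torsor

variable {G : Type v} [CommGroup G] (ρ : G →* Aut P)

/-- A principal cover of `Spec A` gives a torsor algebra. -/
theorem isTorsorAlg (hP : SGA1t.IsPrincipal G P ρ) : IsTorsorAlg (sig ρ) := by
  haveI hfin : IsFinite P.hom := P.prop.1
  haveI het : Etale P.hom := P.prop.2
  haveI haff : IsAffine P.left := isAffine_of_isFinite P.hom
  refine ⟨ringMap_finite P.hom, ringMap_etale P.hom, ?_, ?_⟩
  · intro Ω _ _ _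
    obtain ⟨s, hs⟩ := exists_lift_geomPt P.hom hP.1 Ω (geomPt Ω)
    obtain ⟨ψ, -⟩ := exists_ptOf s hs
    exact ⟨ψ⟩
  · intro Ω _ _ _ ψ ψ'
    obtain ⟨g, hg, huniq⟩ := hP.2 Ω (geomPt Ω) ⟨ptOf ψ, ptOf_comp ψ⟩ ⟨ptOf ψ', ptOf_comp ψ'⟩
    have key : ∀ g' : G, ((FEt.fiber (geomPt Ω)).map (ρ g').hom
        (⟨ptOf ψ, ptOf_comp ψ⟩ : FEt.fiberObj (geomPt Ω) P) = ⟨ptOf ψ', ptOf_comp ψ'⟩) ↔
        ψ.comp (sig ρ g') = ψ' := by
      intro g'
      constructor
      · intro h
        have h1 : ptOf ψ ≫ (ρ g').hom.left = ptOf ψ' := congrArg Subtype.val h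
        rw [ptOf_comp_aut] at h1
        exact ptOf_injective _ _ h1
      · intro h
        apply Subtype.ext
        show ptOf ψ ≫ (ρ g').hom.left = ptOf ψ'
        rw [ptOf_comp_aut, ← h]
        rfl
    exact ⟨g, (key g).mp hg, fun g' hg' => huniq g' ((key g').mpr hg')⟩

end Torsor

section Iso

variable {G : Type v} [CommGroup G] (ρ : G →* Aut P)

/-- An equivariant isomorphism of algebras gives an equivariant isomorphism of covers. -/
theorem exists_iso_of_bijective [IsAffine P.left] {K : Type u} [CommRing K] [Algebra A K]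
    (θ : K →ₐ[A] Γ(P.left, ⊤)) (hθ : Function.Bijective θ) (tw : G → K →+* K)
    (hcompat : ∀ g q, sig ρ g (θ q) = θ (tw g q)) :
    ∃ e : P.left ≅ Spec (CommRingCat.of K),
      e.hom ≫ Spec.map (CommRingCat.ofHom (algebraMap A K)) = P.hom ∧
      ∀ g, (ρ g).hom.left ≫ e.hom = e.hom ≫ Spec.map (CommRingCat.ofHom (tw g)) := by
  let θe : K ≃+* Γ(P.left, ⊤) := RingEquiv.ofBijective θ.toRingHom hθ
  let θh : CommRingCat.of K ⟶ Γ(P.left, ⊤) := CommRingCat.ofHom θ.toRingHom
  let θi : Γ(P.left, ⊤) ⟶ CommRingCat.of K := CommRingCat.ofHom θe.symm.toRingHom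
  have h1 : θh ≫ θi = 𝟙 _ := by
    ext q
    exact θe.symm_apply_apply q
  have h2 : θi ≫ θh = 𝟙 _ := by
    ext c
    exact θe.apply_symm_apply c
  let e : P.left ≅ Spec (CommRingCat.of K) :=
    { hom := P.left.isoSpec.hom ≫ Spec.map θh
      inv := Spec.map θi ≫ P.left.isoSpec.inv
      hom_inv_id := by
        rw [Category.assoc, ← Category.assoc (Spec.map θh), ← Spec.map_comp, h2, Spec.map_id,
          Category.id_comp, Iso.hom_inv_id]
      inv_hom_id := by
        rw [Category.assoc, ← Category.assoc P.left.isoSpec.inv, Iso.inv_hom_id, Category.id_comp,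
          ← Spec.map_comp, h1, Spec.map_id] }
  refine ⟨e, ?_, fun g => ?_⟩
  · show (P.left.isoSpec.hom ≫ Spec.map θh) ≫ _ = _
    rw [Category.assoc, ← Spec.map_comp]
    have h3 : CommRingCat.ofHom (algebraMap A K) ≫ θh = ringMap P.hom := by
      ext a
      exact θ.commutes a
    rw [h3, ← isoSpec_inv_hom, Iso.hom_inv_id_assoc]
  · show (ρ g).hom.left ≫ (P.left.isoSpec.hom ≫ Spec.map θh) =
      (P.left.isoSpec.hom ≫ Spec.map θh) ≫ _
    rw [← Category.assoc, ← Scheme.isoSpec_hom_naturality, Category.assoc, Category.assoc,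
      ← Spec.map_comp, ← Spec.map_comp]
    congr 2
    ext q
    exact hcompat g q

end Iso

end Groth.Agent.Lib.Helper9.Torsor
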